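import Cfsg.Agent.OD.Pre
import Cfsg.Agent.H6.Top2
import Cfsg.Agent.H6.G25A.D0
set_option autoImplicit false
set_option maxRecDepth 100000
set_option Elab.async false
set_option linter.all false
namespace CfH6.G25A
open CfH6 MulAction
noncomputable def n0_0 : Net := mkNet (nat_lit 4096) [(nat_lit 2048, k0), (nat_lit 1024, k1), (nat_lit 512, k2), (nat_lit 256, k3), (nat_lit 128, k4), (nat_lit 64, k5), (nat_lit 32, k6), (nat_lit 16, k7), (nat_lit 8, k8), (nat_lit 4, k9), (nat_lit 2, k10)] [(k11, nat_lit 1)]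
noncomputable def n0_1 : Net := revNet n0_0
noncomputable def n0_2 : Net := mkNet (nat_lit 4096) [(nat_lit 2048, k12), (nat_lit 1024, k13), (nat_lit 512, k14), (nat_lit 256, k15), (nat_lit 128, k16), (nat_lit 64, k17), (nat_lit 32, k18), (nat_lit 16, k19), (nat_lit 8, k20), (nat_lit 4, k21), (nat_lit 2, k22)] [(k23, nat_lit 1)]
noncomputable def n0_3 : Net := revNet n0_2
noncomputable def n0_4 : Net := mkNet (nat_lit 4096) [(nat_lit 2048, k24), (nat_lit 1024, k25), (nat_lit 512, k26), (nat_lit 256, k27), (nat_lit 128, k28), (nat_lit 64, k29), (nat_lit 32, k30), (nat_lit 16, k31), (nat_lit 8, k32), (nat_lit 4, k33), (nat_lit 2, k34)] [(k35, nat_lit 1)]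
noncomputable def n0_5 : Net := revNet n0_4
noncomputable def n0_6 : Net := mkNet (nat_lit 4096) [(nat_lit 2048, k36), (nat_lit 1024, k37), (nat_lit 512, k38), (nat_lit 256, k39), (nat_lit 128, k40), (nat_lit 64, k41), (nat_lit 32, k42), (nat_lit 16, k43), (nat_lit 8, k44), (nat_lit 4, k45), (nat_lit 2, k46)] [(k47, nat_lit 1)]
noncomputable def n0_7 : Net := revNet n0_6
noncomputable def n0_8 : Net := mkNet (nat_lit 4096) [(nat_lit 2048, k48), (nat_lit 1024, k49), (nat_lit 512, k50), (nat_lit 256, k51), (nat_lit 128, k52), (nat_lit 64, k53), (nat_lit 32, k54), (nat_lit 16, k55), (nat_lit 8, k56), (nat_lit 4, k57), (nat_lit 2, k58)] [(k59, nat_lit 1)]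
noncomputable def n2_0 : Net := mkNet (nat_lit 32) [(nat_lit 16, (nat_lit 0xca64cd28)), (nat_lit 8, (nat_lit 0xb7f8faca)), (nat_lit 4, (nat_lit 0xfc4c0c02)), (nat_lit 2, (nat_lit 0x6a0e8a00))] [((nat_lit 0x14014110), nat_lit 1)]
noncomputable def n2_1 : Net := mkNet (nat_lit 32) [(nat_lit 16, (nat_lit 0xb8e6bea6)), (nat_lit 8, (nat_lit 0x65f05052)), (nat_lit 4, (nat_lit 0x924c1400)), (nat_lit 2, (nat_lit 0xe08a4000))] [((nat_lit 0x40510100), nat_lit 1)]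
noncomputable def n3_0 : Net := mkNet (nat_lit 24) [(nat_lit 12, (nat_lit 0xb60808)), (nat_lit 6, (nat_lit 0x170a38)), (nat_lit 3, (nat_lit 0x622b80))] [((nat_lit 0x209048), nat_lit 1), ((nat_lit 0x482480), nat_lit 1), ((nat_lit 0x41040), nat_lit 1)]
noncomputable def n3_1 : Net := mkNet (nat_lit 24) [(nat_lit 12, (nat_lit 0x782012)), (nat_lit 6, (nat_lit 0xe2039c)), (nat_lit 3, (nat_lit 0x12f20))] [((nat_lit 0x240240), nat_lit 1), ((nat_lit 0x482080), nat_lit 1), ((nat_lit 0x241000), nat_lit 1)]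
noncomputable def nets0 : List Net := [n0_0, n0_1, n0_2, n0_3, n0_4, n0_5, n0_6, n0_7, n0_8]
noncomputable def nets1 : List Net := [n0_0, n0_2, n0_4]
def ws1 : List (List ℕ) := [[0],
  [2],
  [4]]
noncomputable def nets2 : List Net := [n2_0, n2_1]
def ws2 : List (List ℕ) := [[0],
  [1]]
noncomputable def nets3 : List Net := [n3_0, n3_1]
def ws3 : List (List ℕ) := [[1, 0, 1, 1, 1, 0, 0],
  [1, 1, 1, 0, 1]]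
def sig : List (List ℕ) := [[0],
  [1],
  [2],
  [3],
  [4],
  [5],
  [6],
  [7],
  [8]]
def eqs0 : List (List ℕ × List ℕ) := [([0, 1], []),
  ([2, 3], []),
  ([4, 5], []),
  ([6, 7], []),
  ([8, 8], []),
  ([0, 0, 0, 0], [1, 1, 1, 1]),
  ([2, 2, 2], [3, 3]),
  ([0, 2, 0, 2], [3, 1, 3, 1]),
  ([1, 1, 3], [3, 1, 1]),
  ([1, 3, 0, 2, 1, 3], [3, 1, 2, 0, 3, 1]),
  ([4, 4, 4], [5, 5]),
  ([5, 1, 5, 0, 4, 1, 4, 0, 5, 1, 5, 0, 4, 1, 4, 0, 5, 1, 5, 0], [1, 5, 0, 5, 1, 4, 0, 4, 1, 5, 0, 5, 1, 4, 0, 4, 1, 5, 0, 5]),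
  ([5, 1, 5, 0, 5, 1, 4, 0], [1, 5, 0, 5, 1, 4, 0, 5]),
  ([5, 0, 5, 1, 4, 0, 4, 1], [0, 5, 1, 4, 0, 4, 1, 5]),
  ([3, 5, 2, 1, 5, 0, 5, 1, 4, 0, 4], [1, 5, 0, 5, 1, 4, 0, 4, 3, 5, 2]),
  ([2, 5, 3, 1, 5, 0, 5, 1, 4, 0, 4], [1, 5, 0, 5, 1, 4, 0, 4, 2, 5, 3]),
  ([5, 3, 5, 2, 4, 3, 4, 2, 5, 1, 5, 0], [1, 5, 0, 5, 1, 4, 0, 4, 1, 5, 0, 5]),
  ([2, 5, 3, 4, 2, 4, 3, 1, 5, 0, 5], [1, 5, 0, 4, 1, 4, 0, 5, 1, 5, 0]),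
  ([3, 5, 2, 1, 4, 0, 3], [5, 1, 4, 0, 4, 3, 5]),
  ([1, 5, 0, 2, 5, 3], [2, 5, 3, 1, 5, 0]),
  ([3, 5, 2, 2, 5, 3, 3, 4, 2, 2], [1, 5, 0, 5, 1, 4, 0, 4, 2, 5]),
  ([1, 1, 4, 0], [5, 5, 1]),
  ([1, 3, 4, 2, 0, 2, 5], [3, 5, 5, 2, 4, 2]),
  ([1, 2, 4, 3, 0, 2, 5, 3, 5, 2], [4, 1, 5, 0, 3, 5, 2, 2, 4]),
  ([1, 5, 1, 5, 0, 4, 1, 4, 0, 5, 0, 5], [5, 1, 5, 0, 4, 1, 4, 0, 5, 1, 5, 0]),
  ([3, 1, 4, 0, 2, 2, 4, 3, 4], [1, 4, 0, 3, 4, 2, 2, 5, 3]),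
  ([3, 3, 4, 2, 4, 4], [4, 4, 2, 4, 3, 3]),
  ([3, 5, 1, 5, 0, 4, 1, 4, 0], [5, 1, 5, 0, 4, 1, 4, 0, 3]),
  ([8, 7, 5, 7, 2, 1, 3, 5, 7], [3, 3, 1, 5, 0, 4, 1, 4, 0]),
  ([8, 4, 8, 4], [4, 2, 2]),
  ([8, 3, 4, 2, 8, 0, 2], [2, 2, 4, 0, 5, 2, 5]),
  ([8, 2, 4, 3, 8, 2], [2, 5, 2, 2, 4]),
  ([8, 5, 1, 5, 0, 4, 1, 4, 0], [4, 3, 5, 2, 4, 2, 5, 3, 8]),
  ([8, 0, 0, 8, 2, 4, 3, 1, 5], [0, 2, 2, 0, 3, 5, 0, 4, 1]),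
  ([8, 2, 8, 2, 4, 4], [4, 3, 5, 2, 2]),
  ([8, 0, 2, 2, 0, 3, 0, 8, 2], [0, 5, 0, 4, 1, 4, 0, 2, 5]),
  ([8, 1, 4, 0, 8, 1, 5, 0, 8, 1, 4], [1, 1, 1, 3, 5, 2, 1, 2, 4, 3, 1]),
  ([6, 8, 3, 1, 4, 8, 1, 8, 1, 5, 1, 5, 0], [0, 2, 2, 1, 3, 5, 2, 5, 3, 1, 5, 0, 5]),
  ([6, 6, 1], [0, 0, 0]),
  ([3, 7], [7, 3]),
  ([7, 0, 6], [0, 0, 0]),
  ([6, 5, 1, 5, 0, 4, 1, 4, 0, 6, 5, 1, 5, 0, 4, 1, 4, 0, 6, 5, 1, 5, 0], [1, 5, 0, 5, 1, 4, 0, 4, 7, 1, 5, 0, 5, 1, 4, 0, 4, 7, 1, 5, 0, 5]),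
  ([6, 5, 1, 5, 0, 4, 1, 4, 0, 6, 1, 5, 0, 5], [0, 5, 0, 5, 1, 4, 0, 4, 7, 5, 1, 5, 0])]
def eqs : List (List ℕ × List ℕ) := eqs0
def lU : List (ℕ × ℕ) := [(0, 23), (24, 3), (32, 3880)]
noncomputable def U : ℕ := ivls lU
def l1 : List (ℕ × ℕ) := [(1, 1), (32, 3124)]
noncomputable def S1 : ℕ := ivls l1
def w1 : List ℕ := [6]
def l2 : List (ℕ × ℕ) := [(2, 21), (24, 3), (3156, 6)]
noncomputable def S2 : ℕ := ivls l2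
def w2 : List ℕ := [8]
def l3 : List (ℕ × ℕ) := [(3162, 750)]
noncomputable def S3 : ℕ := ivls l3
def w3 : List ℕ := [8, 6]
noncomputable def J : List (List ℕ × ℕ × ℕ) := [(w1, 1, S1), (w2, 3156, S2), (w3, 3162, S3)]
def lBig : List (ℕ × ℕ) := [(1, 1), (32, 3124)]
noncomputable def J3 : List (List ℕ × ℕ × ℕ) := [([3, 1, 0, 0, 0, 0], 1, S1)]
noncomputable def J2 : List (List ℕ × ℕ × ℕ) := [([0, 2, 2, 1, 2, 1, 0, 2, 1, 0], 1, S1)]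
noncomputable def J1 : List (List ℕ × ℕ × ℕ) := [([0], 1, S1)]
def ex : List (List ℕ) := [[1, 8]]
def bs' : List ℕ := [0, 1, 2, 3]
end CfH6.G25A
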